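import Groth.Agent.QuotScheme.Spec
import Mathlib.AlgebraicGeometry.ProjectiveSpectrum.Basic
import Mathlib.RingTheory.GradedAlgebra.RingHom

/-! # `Proj A ⟶ Proj A^G` is a quotient -/

universe u

open CategoryTheory AlgebraicGeometry Limits HomogeneousLocalization TopologicalSpace Opposite

namespace Groth.Agent.ProjQuot

lemma bijective_appLE_opensRange {X Y : Scheme.{u}} (j : X ⟶ Y) [IsOpenImmersion j] (O : Y.Opens)
    (hO : O = j.opensRange) (e : (⊤ : X.Opens) ≤ j ⁻¹ᵁ O) :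
    Function.Bijective (j.appLE O ⊤ e).hom := by
  have : IsIso (j.appLE O ⊤ e) := by
    subst hO
    have e' : j ⁻¹ᵁ j.opensRange = ⊤ := j.preimage_opensRange
    have := j.isIso_app j.opensRange le_rfl
    rw [Scheme.Hom.appLE, show homOfLE e = eqToHom e'.symm from rfl]
    infer_instance
  exact ConcreteCategory.bijective_of_isIso (j.appLE O ⊤ e)

variable {R A C : Type u} [CommRing R] [CommRing A] [Algebra R A] [CommRing C] [Algebra R C]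
  {𝒜 : ℕ → Submodule R A} [GradedAlgebra 𝒜] {𝒞 : ℕ → Submodule R C} [GradedAlgebra 𝒞]
  {G : Type u} [Group G] [Finite G] [MulSemiringAction G A]
  (φ : 𝒞 →+*ᵍ 𝒜)

/-- translation as a graded hom -/
def actHom (hG : ∀ (σ : G) (i : ℕ) (a : A), a ∈ 𝒜 i → σ • a ∈ 𝒜 i) (σ : G) : 𝒜 →+*ᵍ 𝒜 where
  toRingHom := MulSemiringAction.toRingHom G A σ
  map_mem h := hG σ _ _ h

variable (𝒜 G) in
/-- `φ` has image the invariants, degree by degree -/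
def HasInvImage : Prop :=
  ∀ (i : ℕ) (a : A), a ∈ 𝒜 i → (∀ σ : G, σ • a = a) → ∃ c ∈ 𝒞 i, φ c = a

section

variable (hG : ∀ (σ : G) (i : ℕ) (a : A), a ∈ 𝒜 i → σ • a ∈ 𝒜 i) (hI : HasInvImage 𝒜 G φ)
  (hfix : ∀ (c : C) (σ : G), σ • φ c = φ c)

include hG hI in
omit hfix in
lemma exists_mem_basicOpen (x : Proj 𝒜) :
    ∃ (n : ℕ) (c : C), 0 < n ∧ c ∈ 𝒞 n ∧ x ∈ Proj.basicOpen 𝒜 (φ c) := by
  classical
  cases nonempty_fintype G
  obtain ⟨n, hn, f, hf, hfx⟩ : ∃ n, 0 < n ∧ ∃ f ∈ 𝒜 n, f ∉ x.asHomogeneousIdeal := by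
    by_contra! H
    exact x.not_irrelevant_le ((HomogeneousIdeal.toIdeal_irrelevant_le _).mpr
      fun i hi y hy ↦ H i hi y hy)
  let T : Finset G := Finset.univ.filter fun σ ↦ σ • f ∉ x.asHomogeneousIdeal
  let e : A := ∑ s ∈ (Finset.univ : Finset G).powersetCard T.card, ∏ σ ∈ s, σ • f
  have hT : 0 < T.card := Finset.card_pos.mpr ⟨1, by simp [T, hfx]⟩
  have hmem : e ∈ 𝒜 (T.card * n) := by
    refine sum_mem fun s hs ↦ ?_
    have := SetLike.prod_mem_graded (A := 𝒜) (fun _ : G ↦ n) (fun σ ↦ σ • f) (F := s)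
      (fun σ _ ↦ hG σ n f hf)
    rwa [Finset.sum_const, (Finset.mem_powersetCard.mp hs).2, smul_eq_mul] at this
  have hinv : ∀ τ : G, τ • e = e := by
    intro τ
    simp only [e, Finset.smul_sum, Finset.smul_prod', smul_smul]
    refine Finset.sum_bij' (fun s _ ↦ s.map (Equiv.mulLeft τ).toEmbedding)
      (fun s _ ↦ s.map (Equiv.mulLeft τ⁻¹).toEmbedding) ?_ ?_ ?_ ?_ ?_
    · intro s hs; simp_all [Finset.mem_powersetCard]
    · intro s hs; simp_all [Finset.mem_powersetCard]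
    · intro s _; ext; simp
    · intro s _; ext; simp
    · intro s _; simp
  obtain ⟨c, hc, hce⟩ := hI _ e hmem hinv
  refine ⟨_, c, Nat.mul_pos hT hn, hc, ?_⟩
  rw [Proj.mem_basicOpen, hce]
  intro he
  have hTmem : T ∈ (Finset.univ : Finset G).powersetCard T.card := by simp [Finset.mem_powersetCard]
  have hrest : ∀ s ∈ ((Finset.univ : Finset G).powersetCard T.card).erase T,
      ∏ σ ∈ s, σ • f ∈ x.asHomogeneousIdeal.toIdeal := by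
    intro s hs
    obtain ⟨hne, hs⟩ := Finset.mem_erase.mp hs
    obtain ⟨σ, hσs, hσT⟩ : ∃ σ ∈ s, σ ∉ T := by
      by_contra! H
      exact hne (Finset.eq_of_subset_of_card_le H (Finset.mem_powersetCard.mp hs).2.ge)
    refine Ideal.mem_of_dvd _ (Finset.dvd_prod_of_mem _ hσs) ?_
    simpa [T] using hσT
  have : ∏ σ ∈ T, σ • f ∈ x.asHomogeneousIdeal.toIdeal := by
    have h1 : e - ∑ s ∈ ((Finset.univ : Finset G).powersetCard T.card).erase T, ∏ σ ∈ s, σ • f =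
        ∏ σ ∈ T, σ • f := by
      rw [sub_eq_iff_eq_add]
      exact (Finset.add_sum_erase _ _ hTmem).symm
    rw [← h1]
    exact Ideal.sub_mem _ he (Ideal.sum_mem _ hrest)
  obtain ⟨σ, hσ, hσx⟩ := (Ideal.IsPrime.prod_mem_iff (hp := x.isPrime)).mp this
  exact (Finset.mem_filter.mp hσ).2 hσx

set_option backward.isDefEq.respectTransparency.types false in
include hG hI hfix in
theorem isQuot (ρ : G →* Aut (Proj 𝒜)) (hφ : Function.Injective φ)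
    (π : Proj 𝒜 ⟶ Proj 𝒞)
    (hπ : ∀ (n : ℕ) (c : C) (hn : 0 < n) (hc : c ∈ 𝒞 n),
      Proj.awayι 𝒜 (φ c) (φ.map_mem hc) hn ≫ π =
        Spec.map (CommRingCat.ofHom (Away.map φ c)) ≫ Proj.awayι 𝒞 c hc hn)
    (hρ : ∀ (σ : G) (n : ℕ) (c : C) (hn : 0 < n) (hc : c ∈ 𝒞 n),
      ∃ θ : CommRingCat.of (Away 𝒜 (φ c)) ⟶ CommRingCat.of (Away 𝒜 (φ c)),
        (∀ (k : ℕ) (a : A) (ha : a ∈ 𝒜 (k • n)), θ.hom (Away.mk 𝒜 (φ.map_mem hc) k a ha) =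
          Away.mk 𝒜 (φ.map_mem hc) k (σ • a) (hG σ _ a ha)) ∧
        Proj.awayι 𝒜 (φ c) (φ.map_mem hc) hn ≫ (ρ σ).inv =
          Spec.map θ ≫ Proj.awayι 𝒜 (φ c) (φ.map_mem hc) hn) :
    SGA1.IsQuot ρ π := by
  classical
  cases nonempty_fintype G
  have hhom : ∀ σ : G, (ρ σ).hom = (ρ σ⁻¹).inv := fun σ ↦ by rw [map_inv]; rfl
  have hθfix : ∀ (n : ℕ) (c : C) (hc : c ∈ 𝒞 n)
      (θ : CommRingCat.of (Away 𝒜 (φ c)) ⟶ CommRingCat.of (Away 𝒜 (φ c))) (σ : G),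
      (∀ (k : ℕ) (a : A) (ha : a ∈ 𝒜 (k • n)), θ.hom (Away.mk 𝒜 (φ.map_mem hc) k a ha) =
          Away.mk 𝒜 (φ.map_mem hc) k (σ • a) (hG σ _ a ha)) →
      CommRingCat.ofHom (Away.map φ c) ≫ θ = CommRingCat.ofHom (Away.map φ c) := by
    intro n c hc θ σ hθ
    refine CommRingCat.hom_ext (RingHom.ext fun z ↦ ?_)
    obtain ⟨k, a, ha, rfl⟩ := Away.mk_surjective 𝒞 hc z
    change θ.hom (Away.map φ c (Away.mk 𝒞 hc k a ha)) = Away.map φ c (Away.mk 𝒞 hc k a ha)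
    rw [Away.map_mk, hθ]
    congr 1
    exact hfix a σ
  -- preimages of the charts
  have hpre : ∀ (n : ℕ) (c : C) (hn : 0 < n) (hc : c ∈ 𝒞 n),
      π ⁻¹ᵁ Proj.basicOpen 𝒞 c = Proj.basicOpen 𝒜 (φ c) := by
    intro n c hn hc
    ext x
    obtain ⟨m, c', hm, hc', hx⟩ := exists_mem_basicOpen φ hG hI x
    rw [← Proj.opensRange_awayι 𝒜 (φ c') (φ.map_mem hc') hm] at hx
    obtain ⟨q, rfl⟩ := hx
    change q ∈ Proj.awayι 𝒜 (φ c') (φ.map_mem hc') hm ⁻¹ᵁ (π ⁻¹ᵁ Proj.basicOpen 𝒞 c) ↔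
      q ∈ Proj.awayι 𝒜 (φ c') (φ.map_mem hc') hm ⁻¹ᵁ Proj.basicOpen 𝒜 (φ c)
    rw [← Scheme.Hom.comp_preimage, hπ m c' hm hc', Scheme.Hom.comp_preimage,
      Proj.awayι_preimage_basicOpen 𝒞 hc' hm hc hn,
      show Proj.awayι 𝒜 (φ c') (φ.map_mem hc') hm ⁻¹ᵁ Proj.basicOpen 𝒜 (φ c) = _ from
        Proj.awayι_preimage_basicOpen 𝒜 (φ.map_mem hc') hm (φ.map_mem hc) hn]
    change Away.map φ c' (Away.isLocalizationElem hc' hc) ∉ q.asIdeal ↔ _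
    rw [Away.isLocalizationElem, Away.map_mk]
    simp only [map_pow]
    rfl
  have hcov : ∀ y : Proj 𝒞, ∃ (n : ℕ) (c : C), 0 < n ∧ c ∈ 𝒞 n ∧ y ∈ Proj.basicOpen 𝒞 c := by
    intro y
    by_contra! H
    refine y.not_irrelevant_le ((HomogeneousIdeal.toIdeal_irrelevant_le _).mpr fun i hi z hz ↦ ?_)
    by_contra hzy
    exact H i z hi hz hzy
  have haff : IsAffineHom π := by
    refine IsZariskiLocalAtTarget.of_iSup_eq_top (P := @IsAffineHom)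
      (fun p : {p : ℕ × C // 0 < p.1 ∧ p.2 ∈ 𝒞 p.1} ↦ Proj.basicOpen 𝒞 p.1.2) ?_ fun p ↦ ?_
    · exact top_le_iff.mp fun y _ ↦ by
        obtain ⟨n, c, hn, hc, hy⟩ := hcov y
        exact Opens.mem_iSup.mpr ⟨⟨(n, c), hn, hc⟩, hy⟩
    · have h1 : IsAffineOpen (Proj.basicOpen 𝒞 p.1.2) :=
        Proj.isAffineOpen_basicOpen 𝒞 _ p.2.2 p.2.1
      have h2 : IsAffineOpen (π ⁻¹ᵁ Proj.basicOpen 𝒞 p.1.2) := by
        rw [hpre _ _ p.2.1 p.2.2]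
        exact Proj.isAffineOpen_basicOpen 𝒜 _ (φ.map_mem p.2.2) p.2.1
      have : IsAffine (Proj.basicOpen 𝒞 p.1.2).toScheme := h1
      have : IsAffine (π ⁻¹ᵁ Proj.basicOpen 𝒞 p.1.2).toScheme := h2
      exact isAffineHom_of_isAffine _
  have hinv : ∀ σ : G, (ρ σ).hom ≫ π = π := by
    intro σ
    refine (Scheme.openCoverOfIsOpenCover (Proj 𝒜)
      (fun p : {p : ℕ × C // 0 < p.1 ∧ p.2 ∈ 𝒞 p.1} ↦ Proj.basicOpen 𝒜 (φ p.1.2))
      (top_le_iff.mp fun x _ ↦ by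
        obtain ⟨n, c, hn, hc, hy⟩ := exists_mem_basicOpen φ hG hI x
        exact Opens.mem_iSup.mpr ⟨⟨(n, c), hn, hc⟩, hy⟩)).hom_ext _ _ fun i ↦ ?_
    change {p : ℕ × C // 0 < p.1 ∧ p.2 ∈ 𝒞 p.1} at i
    obtain ⟨⟨n, c⟩, hn, hc⟩ := i
    change (Proj.basicOpen 𝒜 (φ c)).ι ≫ (ρ σ).hom ≫ π = (Proj.basicOpen 𝒜 (φ c)).ι ≫ π
    rw [← cancel_epi (Proj.basicOpenIsoSpec 𝒜 (φ c) (φ.map_mem hc) hn).inv]
    change Proj.awayι 𝒜 (φ c) (φ.map_mem hc) hn ≫ (ρ σ).hom ≫ π =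
      Proj.awayι 𝒜 (φ c) (φ.map_mem hc) hn ≫ π
    obtain ⟨θ, hθ, hθι⟩ := hρ σ⁻¹ n c hn hc
    rw [hhom, reassoc_of% hθι, hπ n c hn hc, ← Category.assoc, ← Spec.map_comp,
      hθfix n c hc θ σ⁻¹ hθ]
  refine QuotScheme.of_affine_cover haff hinv fun y ↦ ?_
  obtain ⟨n, c, hn, hc, hy⟩ := hcov y
  refine ⟨_, Proj.isAffineOpen_basicOpen 𝒞 c hc hn, hy, ?_⟩
  let jY := Proj.awayι 𝒞 c hc hn
  let jX := Proj.awayι 𝒜 (φ c) (φ.map_mem hc) hn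
  let F := CommRingCat.ofHom (Away.map φ c)
  have eY : (⊤ : (Spec (.of (Away 𝒞 c))).Opens) ≤ jY ⁻¹ᵁ Proj.basicOpen 𝒞 c := by
    rw [← Proj.opensRange_awayι 𝒞 c hc hn, Scheme.Hom.preimage_opensRange]
  have eX : (⊤ : (Spec (.of (Away 𝒜 (φ c)))).Opens) ≤ jX ⁻¹ᵁ (π ⁻¹ᵁ Proj.basicOpen 𝒞 c) := by
    rw [hpre n c hn hc, ← Proj.opensRange_awayι 𝒜 (φ c) (φ.map_mem hc) hn,
      Scheme.Hom.preimage_opensRange]
  have bY := bijective_appLE_opensRange jY _ (Proj.opensRange_awayι 𝒞 c hc hn).symm eY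
  have bX := bijective_appLE_opensRange jX _
    ((hpre n c hn hc).trans (Proj.opensRange_awayι 𝒜 (φ c) (φ.map_mem hc) hn).symm) eX
  let γY := (jY.appLE _ ⊤ eY ≫ (Scheme.ΓSpecIso _).hom).hom
  let γX := (jX.appLE _ ⊤ eX ≫ (Scheme.ΓSpecIso _).hom).hom
  have bγY : Function.Bijective γY :=
    (ConcreteCategory.bijective_of_isIso (Scheme.ΓSpecIso _).hom).comp bY
  have bγX : Function.Bijective γX :=
    (ConcreteCategory.bijective_of_isIso (Scheme.ΓSpecIso _).hom).comp bX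
  have hsq : ∀ t, γX ((π.app (Proj.basicOpen 𝒞 c)).hom t) = F.hom (γY t) := by
    intro t
    have h1 := Scheme.Hom.appLE_comp_appLE jX π _ (π ⁻¹ᵁ Proj.basicOpen 𝒞 c) ⊤ le_rfl eX
    rw [QuotScheme.appLE_congr_hom (hπ n c hn hc) _ _ _ (fun _ _ ↦ eY trivial),
      ← Scheme.Hom.app_eq_appLE] at h1
    have h2 := Scheme.Hom.appLE_comp_appLE (Spec.map F) jY (Proj.basicOpen 𝒞 c) ⊤ ⊤ eY
      (fun _ _ ↦ trivial)
    change (Scheme.ΓSpecIso _).hom.hom ((jX.appLE _ ⊤ eX).hom ((π.app _).hom t)) = _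
    rw [show (jX.appLE _ ⊤ eX).hom ((π.app _).hom t) = _ from congr($(h1.trans h2.symm) t)]
    exact QuotScheme.appLE_top_spec F rfl _ _
  have hinjF : Function.Injective F.hom := by
    refine (injective_iff_map_eq_zero _).mpr fun z hz ↦ ?_
    obtain ⟨k, a, ha, rfl⟩ := Away.mk_surjective 𝒞 hc z
    change Away.map φ c _ = 0 at hz
    rw [Away.map_mk, ext_iff_val, Away.val_mk, val_zero, Localization.mk_eq_mk',
      IsLocalization.mk'_eq_zero_iff] at hz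
    obtain ⟨⟨_, l, rfl⟩, hl⟩ := hz
    rw [ext_iff_val, Away.val_mk, val_zero, Localization.mk_eq_mk', IsLocalization.mk'_eq_zero_iff]
    exact ⟨⟨_, l, rfl⟩, hφ (by simpa [map_pow] using hl)⟩
  refine ⟨fun s t hst ↦ bγY.1 (hinjF ?_), fun s hs ↦ ?_⟩
  · rw [← hsq, ← hsq, hst]
  obtain ⟨k, a, ha, hka⟩ := Away.mk_surjective 𝒜 (φ.map_mem hc) (γX s)
  have key : ∀ σ : G, ∃ l : ℕ, φ c ^ l * (σ • a - a) = 0 := by
    intro σ
    obtain ⟨θ, hθ, hθι⟩ := hρ σ n c hn hc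
    have hinvσ : π ⁻¹ᵁ Proj.basicOpen 𝒞 c ≤ (ρ σ⁻¹).hom ⁻¹ᵁ (π ⁻¹ᵁ Proj.basicOpen 𝒞 c) :=
      SGA1.preimage_le_of_inv ρ π hinv σ⁻¹ _
    have h0 : (ρ σ⁻¹).hom = (ρ σ).inv := by rw [hhom, inv_inv]
    have h1 := Scheme.Hom.appLE_comp_appLE jX (ρ σ⁻¹).hom (π ⁻¹ᵁ Proj.basicOpen 𝒞 c)
      (π ⁻¹ᵁ Proj.basicOpen 𝒞 c) ⊤ hinvσ eX
    rw [QuotScheme.appLE_congr_hom ((congr_arg (jX ≫ ·) h0).trans hθι) _ _ _
      (fun _ _ ↦ eX trivial)] at h1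
    have h2 := Scheme.Hom.appLE_comp_appLE (Spec.map θ) jX (π ⁻¹ᵁ Proj.basicOpen 𝒞 c) ⊤ ⊤ eX
      (fun _ _ ↦ trivial)
    have h3 := congr($(h1.trans h2.symm) s)
    have h4 : θ.hom (γX s) = γX s := by
      refine (QuotScheme.appLE_top_spec θ rfl (fun _ _ ↦ trivial) _).symm.trans ?_
      refine (congr_arg _ h3.symm).trans ?_
      exact congr_arg γX (hs σ⁻¹ hinvσ)
    rw [← hka, hθ, ext_iff_val, Away.val_mk, Away.val_mk, Localization.mk_eq_mk',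
      IsLocalization.mk'_eq_iff_eq, IsLocalization.eq_iff_exists (Submonoid.powers (φ c))] at h4
    obtain ⟨⟨_, l, rfl⟩, hl⟩ := h4
    refine ⟨l + k, ?_⟩
    linear_combination hl
  choose l hl using key
  let L := Finset.univ.sup l
  have hL : ∀ σ : G, σ • (φ c ^ L * a) = φ c ^ L * a := by
    intro σ
    rw [smul_mul', smul_pow', hfix, ← sub_eq_zero, ← mul_sub, ← Nat.sub_add_cancel
      (show l σ ≤ L from Finset.le_sup (f := l) (Finset.mem_univ σ)), pow_add, mul_assoc, hl,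
      mul_zero]
  have hdeg : φ c ^ L * a ∈ 𝒜 ((L + k) • n) := by
    rw [add_smul]
    exact SetLike.mul_mem_graded (SetLike.pow_mem_graded L (φ.map_mem hc)) ha
  obtain ⟨b, hb, hba⟩ := hI _ _ hdeg hL
  obtain ⟨t, ht⟩ := bγY.2 (Away.mk 𝒞 hc (L + k) b hb)
  refine ⟨t, bγX.1 ?_⟩
  rw [hsq, ht, ← hka]
  change Away.map φ c _ = _
  rw [Away.map_mk, ext_iff_val, Away.val_mk, Away.val_mk, Localization.mk_eq_mk',
    IsLocalization.mk'_eq_iff_eq]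
  congr 1
  simp only [hba]
  change φ c ^ k * (φ c ^ L * a) = φ c ^ (L + k) * a
  ring

end

/-- the chart action, transported along an equality of the denominators -/
lemma exists_theta {x : Proj 𝒜 ⟶ Proj 𝒜} {f g : A} (n : ℕ) (hn : 0 < n) (hf : f ∈ 𝒜 n)
    (hg : g ∈ 𝒜 n) (hfg : g = f) (ψ : A → A) (hψ : ∀ (i : ℕ) (a : A), a ∈ 𝒜 i → ψ a ∈ 𝒜 i)
    (θ₀ : CommRingCat.of (Away 𝒜 f) ⟶ CommRingCat.of (Away 𝒜 g))
    (h₁ : ∀ (k : ℕ) (a : A) (ha : a ∈ 𝒜 (k • n)), θ₀.hom (Away.mk 𝒜 hf k a ha) =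
      Away.mk 𝒜 hg k (ψ a) (hψ _ a ha))
    (h₂ : Proj.awayι 𝒜 g hg hn ≫ x = Spec.map θ₀ ≫ Proj.awayι 𝒜 f hf hn) :
    ∃ θ : CommRingCat.of (Away 𝒜 f) ⟶ CommRingCat.of (Away 𝒜 f),
      (∀ (k : ℕ) (a : A) (ha : a ∈ 𝒜 (k • n)), θ.hom (Away.mk 𝒜 hf k a ha) =
        Away.mk 𝒜 hf k (ψ a) (hψ _ a ha)) ∧
      Proj.awayι 𝒜 f hf hn ≫ x = Spec.map θ ≫ Proj.awayι 𝒜 f hf hn := by
  subst hfg
  exact ⟨θ₀, h₁, h₂⟩

/-- `Away.map` is the restriction of `Localization.awayMap` -/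
lemma algebraMap_comp_map {A B σ τ : Type u} [CommRing A] [CommRing B] [SetLike σ A]
    [AddSubgroupClass σ A] [SetLike τ B] [AddSubgroupClass τ B] {𝒜 : ℕ → σ} {ℬ : ℕ → τ}
    [GradedRing 𝒜] [GradedRing ℬ] (g : 𝒜 →+*ᵍ ℬ) {f : A} {n : ℕ} (hf : f ∈ 𝒜 n) :
    (algebraMap (Away ℬ (g f)) (Localization.Away (g f))).comp (Away.map g f) =
      (Localization.awayMap g.toRingHom f).comp (algebraMap (Away 𝒜 f) (Localization.Away f)) := by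
  ext z
  obtain ⟨k, a, ha, rfl⟩ := Away.mk_surjective 𝒜 hf z
  simp only [RingHom.comp_apply, HomogeneousLocalization.algebraMap_apply, Away.map_mk, Away.val_mk]
  rw [Localization.mk_eq_mk', Localization.mk_eq_mk', Localization.awayMap,
    IsLocalization.Away.map, IsLocalization.map_mk']
  congr 1
  ext
  exact (map_pow g.toRingHom f k).symm

end Groth.Agent.ProjQuot
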